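import Groth.Agent.Fano.K314.CrvPull
import Groth.Agent.Fano.K655.CrvDens

/-!
# Restriction of a curve chart to an affine open of its base (S16940, node C1)
-/

set_option autoImplicit false

universe u

open CategoryTheory CategoryTheory.Limits AlgebraicGeometry

namespace K955.Restr

open K505.KonDef K655.CrvDens K314.CrvPull

variable {k : Type u} [Field k] {N : ℕ}

/-- A family whose base maps into the range of an open immersion `b.base.left` factors through `b`. -/
theorem exists_fac {S : Scheme.{u}} {n : ℕ} {A' A B : CurvSt.PtFamObj S n} (b : A' ⟶ B) [IsOpenImmersion b.base.left]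
    (h : A ⟶ B) (hr : Set.range h.base.left ⊆ Set.range b.base.left) :
    ∃! h' : A ⟶ A', h' ≫ b = h := by
  let g : A.base ⟶ A'.base := Over.homMk (IsOpenImmersion.lift b.base.left h.base.left hr) (by
    rw [← Over.w b.base, IsOpenImmersion.lift_fac_assoc, Over.w h.base])
  have hg : g ≫ b.base = h.base := Over.OverMorphism.ext (IsOpenImmersion.lift_fac _ _ _)
  obtain ⟨χ, ⟨h1, h2⟩, h3⟩ := existsUnique_fac b g h hg
  refine ⟨χ, h2, fun χ' hχ' => h3 χ' ⟨?_, hχ'⟩⟩
  have hb : χ'.base ≫ b.base = h.base := congrArg CurvSt.PtFamObj.Hom.base hχ'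
  apply Over.OverMorphism.ext
  rw [← cancel_mono b.base.left]
  exact congrArg CommaMorphism.left (hb.trans hg.symm)

/-- The points over which the curve is smooth, for the base change of a chart. -/
theorem smPts_pull (c : CrvChart k N) {V : Over (Spec (CommRingCat.of k))} (j : V ⟶ c.U) [Etale j.left]
    [IsAffine V.left] : smPts (pull c j) = j.left ⁻¹' smPts c := by
  ext w
  let b : Spec ((pull c j).U.left.residueField w) ⟶ (pull c j).U.left := (pull c j).U.left.fromSpecResidueField w
  have hb : Set.range b = {w} := Scheme.range_fromSpecResidueField w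
  have h1 := smooth_iff (pull c j) (IsPullback.of_hasPullback (pull c j).f b)
  have h2 := smooth_iff c ((IsPullback.of_hasPullback (pull c j).f b).paste_horiz (bcHom c.B j).cart)
  rw [hb, Set.singleton_subset_iff] at h1
  have h3 : Set.range (b ≫ (bcHom c.B j).base.left) ⊆ smPts c ↔ w ∈ j.left ⁻¹' smPts c := by
    constructor
    · intro h
      have h4 : (b ≫ (bcHom c.B j).base.left) (IsLocalRing.closedPoint _) ∈ smPts c := h ⟨_, rfl⟩
      have h5 : b (IsLocalRing.closedPoint _) = w := by
        have : b (IsLocalRing.closedPoint _) ∈ Set.range b := ⟨_, rfl⟩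
        rwa [hb] at this
      change j.left (b (IsLocalRing.closedPoint _)) ∈ smPts c at h4
      rwa [h5] at h4
    · rintro h _ ⟨z, rfl⟩
      have h5 : b z = w := by
        have : b z ∈ Set.range b := ⟨_, rfl⟩
        rwa [hb] at this
      change j.left (b z) ∈ smPts c
      rw [h5]
      exact h
  exact h1.symm.trans (h2.trans h3)

/-- The smooth curves are dense in the base change of a chart. -/
theorem dense_smPts_pull (c : CrvChart k N) (hc : Dense (smPts c)) {V : Over (Spec (CommRingCat.of k))}
    (j : V ⟶ c.U) [Etale j.left] [IsAffine V.left] : Dense (smPts (pull c j)) := by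
  rw [smPts_pull]
  exact hc.preimage (by
    have : UniversallyOpen j.left := inferInstance
    exact j.left.isOpenMap)

/-- Restriction of a chart to an affine open of its base, with the density of the smooth curves. -/
theorem exists_restr' (c : CrvChart k N) (V : c.U.left.Opens) (hV : IsAffineOpen V) :
    ∃ (c' : CrvChart k N) (b : c'.B ⟶ c.B), IsOpenImmersion b.base.left ∧
      Set.range b.base.left = (V : Set c.U.left) ∧
      (∀ (A : CurvSt.PtFamObj (Spec (CommRingCat.of k)) N) (h : A ⟶ c.B), Set.range h.base.left ⊆ (V : Set c.U.left) →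
        ∃ h' : A ⟶ c'.B, h' ≫ b = h) ∧
      smPts c' = b.base.left ⁻¹' smPts c ∧ (Dense (smPts c) → Dense (smPts c')) := by
  let V' : Over (Spec (CommRingCat.of k)) := Over.mk (V.ι ≫ c.U.hom)
  let j : V' ⟶ c.U := Over.homMk V.ι rfl
  have hj : IsOpenImmersion j.left := inferInstanceAs (IsOpenImmersion V.ι)
  have he : Etale j.left := inferInstance
  have hA : IsAffine V'.left := hV
  have hr : Set.range j.left = (V : Set c.U.left) := V.range_ι
  have hb : (bcHom c.B j).base = j := rfl
  refine ⟨pull c j, bcHom c.B j, hj, hr, fun A h hh => ?_, smPts_pull c j, fun h => dense_smPts_pull c h j⟩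
  have : IsOpenImmersion (bcHom c.B j).base.left := hj
  obtain ⟨h', h1, -⟩ := exists_fac (bcHom c.B j) h (hh.trans (le_of_eq hr.symm))
  exact ⟨h', h1⟩

/-- Node C1: restriction of a chart to an affine open of its base. -/
theorem exists_restr (c : CrvChart k N) (V : c.U.left.Opens) (hV : IsAffineOpen V) :
    ∃ (c' : CrvChart k N) (b : c'.B ⟶ c.B), IsOpenImmersion b.base.left ∧
      Set.range b.base.left = (V : Set c.U.left) ∧
      ∀ (A : CurvSt.PtFamObj (Spec (CommRingCat.of k)) N) (h : A ⟶ c.B), Set.range h.base.left ⊆ (V : Set c.U.left) →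
        ∃ h' : A ⟶ c'.B, h' ≫ b = h := by
  obtain ⟨c', b, h1, h2, h3, -, -⟩ := exists_restr' c V hV
  exact ⟨c', b, h1, h2, h3⟩

end K955.Restr
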